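import Groth.Agent.RecollLib.Equiv
import Groth.Agent.H9Misc.TelLocal
import Groth.Prelude.Def_DCoh2

/-!
# Direct image along a closed immersion on derived categories of etale sheaves
-/

universe u

open CategoryTheory CategoryTheory.Limits AlgebraicGeometry Opposite

attribute [local instance] HasDerivedCategory.standard

namespace RecollLib

set_option backward.isDefEq.respectTransparency false
set_option backward.isDefEq.respectTransparency.types false
set_option linter.unusedSectionVars false
set_option linter.style.haveILetI false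

open Groth.Agent Groth.Agent.H9Misc

variable {X Z U : Scheme.{u}} (i : Z ⟶ X) [IsClosedImmersion i] (j : U ⟶ X) [IsOpenImmersion j]
  [PreservesFiniteColimits (EtCoh.push i)]

theorem push_derived_closed (hU : Set.range j.base = (Set.range i.base)ᶜ) :
    ((EtCoh.push i).mapDerivedCategory.Full ∧ (EtCoh.push i).mapDerivedCategory.Faithful) ∧
      ∀ K : DCoh.DEt X, (EtCoh.push i).mapDerivedCategory.essImage K ↔
          ∀ n : ℤ, IsZero ((EtCoh.pull j).obj (DCoh.HDEt K n)) := by
  haveI := EtFound.pull_preservesFiniteLimits i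
  haveI := EtFound.pull_preservesFiniteLimits j
  haveI : PreservesFiniteColimits (EtCoh.pull i) :=
    haveI := (EtCoh.pullPushAdj i).leftAdjoint_preservesColimits
    inferInstance
  haveI : PreservesFiniteColimits (EtCoh.pull j) :=
    haveI := (EtCoh.pullPushAdj j).leftAdjoint_preservesColimits
    inferInstance
  haveI : PreservesFiniteLimits (EtCoh.push i) :=
    haveI := (EtCoh.pullPushAdj i).rightAdjoint_preservesLimits
    inferInstance
  haveI : (EtCoh.pull i).Additive := (EtCoh.pullPushAdj i).left_adjoint_additive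
  haveI : (EtCoh.pull j).Additive := (EtCoh.pullPushAdj j).left_adjoint_additive
  let G := (EtCoh.pull i).mapDerivedCategory
  let R := (EtCoh.push i).mapDerivedCategory
  let J := (EtCoh.pull j).mapDerivedCategory
  let a : G ⊣ R := TelLocal.derivedAdjunction (EtCoh.pullPushAdj i)
  let b := SerreDerived.adjHtpy (ComplexShape.up ℤ) (EtCoh.pullPushAdj i)
  have hb : ∀ K, IsIso (b.counit.app K) := fun K => by
    let s : ((EtCoh.push i).mapHomologicalComplex _ ⋙ (EtCoh.pull i).mapHomologicalComplex _).obj K.as ⟶ K.as :=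
      { f := fun n => (EtCoh.pullPushAdj i).counit.app (K.as.X n)
        comm' := fun m n _ => ((EtCoh.pullPushAdj i).counit.naturality (K.as.d m n)).symm }
    have : ∀ n, IsIso (s.f n) := fun n => isIso_counit_closed i (K.as.X n)
    have hs : IsIso s := HomologicalComplex.Hom.isIso_of_components _
    exact ((HomotopyCategory.quotient _ _).mapIso (@asIso _ _ _ _ _ hs)).isIso_hom
  have hQ : ∀ L, IsIso (a.counit.app (DerivedCategory.Qh.obj L)) := fun L => by
    have := hb L
    dsimp only [a, TelLocal.derivedAdjunction]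
    rw [Adjunction.localization_counit_app]
    infer_instance
  have ha : ∀ L, IsIso (a.counit.app L) := fun L => by
    have := Localization.essSurj (DerivedCategory.Qh (C := EtCoh.Ab Z)) (HomotopyCategory.quasiIso _ (ComplexShape.up ℤ))
    have := hQ (DerivedCategory.Qh.objPreimage L)
    exact (NatTrans.isIso_app_iff_of_iso a.counit (DerivedCategory.Qh.objObjPreimageIso L)).1 this
  haveI : IsIso a.counit := NatIso.isIso_of_isIso_app _
  have hJR : ∀ L, IsZero (J.obj (R.obj L)) := fun L => by
    have : Localization.Lifting DerivedCategory.Q (HomologicalComplex.quasiIso (EtCoh.Ab Z) (ComplexShape.up ℤ))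
        ((EtCoh.push i).mapHomologicalComplex _ ⋙ DerivedCategory.Q) R := inferInstance
    have := Localization.essSurj (DerivedCategory.Q (C := EtCoh.Ab Z)) (HomologicalComplex.quasiIso _ (ComplexShape.up ℤ))
    obtain ⟨M, ⟨e⟩⟩ : ∃ M, Nonempty (DerivedCategory.Q.obj M ≅ L) :=
      ⟨_, ⟨DerivedCategory.Q.objObjPreimageIso L⟩⟩
    refine IsZero.of_iso ?_ (J.mapIso ((R.mapIso e).symm ≪≫ (EtCoh.push i).mapDerivedCategoryFactors.app M) ≪≫
      (EtCoh.pull j).mapDerivedCategoryFactors.app _)
    refine Functor.map_isZero (DerivedCategory.Q (C := EtCoh.Ab U))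
      (X := ((EtCoh.pull j).mapHomologicalComplex _).obj (((EtCoh.push i).mapHomologicalComplex _).obj M)) ?_
    rw [IsZero.iff_id_eq_zero]
    exact HomologicalComplex.hom_ext _ _ fun n => (isZero_pull_push hU (M.X n)).eq_of_src _ _
  refine ⟨⟨a.fullyFaithfulROfIsIsoCounit.full, a.fullyFaithfulROfIsIsoCounit.faithful⟩, fun K => ⟨?_, fun h => ?_⟩⟩
  · rintro ⟨L, ⟨e⟩⟩
    exact (SerreDerived.isZero_mapDerived_iff (EtCoh.pull j) K).1 ((hJR L).of_iso (J.mapIso e.symm))
  · haveI hGη : IsIso (G.map (a.unit.app K)) :=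
      @IsIso.of_isIso_fac_right _ _ _ _ _ _ _ _ (ha (G.obj K)) (IsIso.id _) (a.left_triangle_components K)
    obtain ⟨C, g, δ, hT⟩ := Pretriangulated.distinguished_cocone_triangle (a.unit.app K)
    have hG : IsZero (G.obj C) :=
      (Pretriangulated.Triangle.isZero₃_iff_isIso₁ _ (G.map_distinguished _ hT)).2 hGη
    have hJ : IsZero (J.obj C) := by
      refine (Pretriangulated.Triangle.isZero₃_iff_isIso₁ _ (J.map_distinguished _ hT)).2 ?_
      exact ((SerreDerived.isZero_mapDerived_iff (EtCoh.pull j) K).2 h).isIso (hJR _) _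
    have hC : IsZero C := by
      have h0 : ∀ n, IsZero ((DerivedCategory.homologyFunctor (EtCoh.Ab X) n).obj C) := fun n => by
        rw [IsZero.iff_id_eq_zero]
        let H := (DerivedCategory.homologyFunctor (EtCoh.Ab X) n).obj C
        have hi := (SerreDerived.isZero_mapDerived_iff (EtCoh.pull i) C).1 hG n
        have hj := (SerreDerived.isZero_mapDerived_iff (EtCoh.pull j) C).1 hJ n
        haveI : IsIso (0 : H ⟶ H) := isIso_of_pulls hU (0 : H ⟶ H) (hi.isIso hi _) (hj.isIso hj _)
        rw [← cancel_epi (0 : H ⟶ H)]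
        simp
      have := Localization.essSurj (DerivedCategory.Q (C := EtCoh.Ab X)) (HomologicalComplex.quasiIso _ (ComplexShape.up ℤ))
      obtain ⟨M, ⟨e⟩⟩ : ∃ M, Nonempty (DerivedCategory.Q.obj M ≅ C) :=
        ⟨_, ⟨DerivedCategory.Q.objObjPreimageIso C⟩⟩
      refine ((FinDimDerived.isZero_Q_obj_iff M).2 fun n => ?_).of_iso e.symm
      rw [HomologicalComplex.exactAt_iff_isZero_homology]
      exact (h0 n).of_iso (((DerivedCategory.homologyFunctorFactors _ n).app M).symm ≪≫
        (DerivedCategory.homologyFunctor _ n).mapIso e)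
    haveI : IsIso (a.unit.app K) := (Pretriangulated.Triangle.isZero₃_iff_isIso₁ _ hT).1 hC
    exact ⟨G.obj K, ⟨(asIso (a.unit.app K)).symm⟩⟩

end RecollLib
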