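import Groth.Prelude.Def_W4c1etweilhu916Glue
import Groth.Agent.EtFound.AbRecollement

/-!
# Recollement of abelian etale sheaves along an open and its closed complement
-/

universe u

open CategoryTheory CategoryTheory.Limits AlgebraicGeometry Opposite

namespace RecollLib

set_option backward.isDefEq.respectTransparency false
set_option backward.isDefEq.respectTransparency.types false
set_option linter.unusedSectionVars false
set_option linter.style.haveILetI false

open Groth.Agent

variable {X Z U : Scheme.{u}} (i : Z ⟶ X) [IsClosedImmersion i] (j : U ⟶ X) [IsOpenImmersion j]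

theorem isIso_counit_closed (A : EtCoh.Ab Z) : IsIso ((EtCoh.pullPushAdj i).counit.app A) :=
  EtFound.counit_isIso (A := AddCommGrpCat.{u + 1}) i (EtFound.liftable_of_isClosedImmersion i) A

theorem isIso_counit_open (B : EtCoh.Ab U) : IsIso ((EtCoh.pullPushAdj j).counit.app B) :=
  EtFound.counit_isIso (A := AddCommGrpCat.{u + 1}) j (EtFound.liftable_of_isOpenImmersion j) B

theorem isIso_pull_unit_closed (G : EtCoh.Ab X) :
    IsIso ((EtCoh.pull i).map ((EtCoh.pullPushAdj i).unit.app G)) :=
  @IsIso.of_isIso_fac_right _ _ _ _ _ _ _ _ (isIso_counit_closed i ((EtCoh.pull i).obj G)) (IsIso.id _)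
    ((EtCoh.pullPushAdj i).left_triangle_components G)

theorem isIso_pull_unit_open (G : EtCoh.Ab X) :
    IsIso ((EtCoh.pull j).map ((EtCoh.pullPushAdj j).unit.app G)) :=
  @IsIso.of_isIso_fac_right _ _ _ _ _ _ _ _ (isIso_counit_open j ((EtCoh.pull j).obj G)) (IsIso.id _)
    ((EtCoh.pullPushAdj j).left_triangle_components G)

section
variable {i j} (hU : Set.range j.base = (Set.range i.base)ᶜ)
include hU

theorem isZero_pull_push (A : EtCoh.Ab Z) : IsZero ((EtCoh.pull j).obj ((EtCoh.push i).obj A)) := by
  refine (EtFound.isZero_iff_stalks _).2 fun Ω _ _ z => ?_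
  refine IsZero.of_iso ?_ ((EtFound.stalkPullIso j z).app _)
  refine EtFound.isZero_stalk_push_closed i A (z ≫ j) fun h => ?_
  have : (z ≫ j).base default ∈ Set.range j.base := ⟨z.base default, (Scheme.Hom.comp_apply _ _ _).symm⟩
  rw [hU] at this
  exact this h

theorem isIso_of_pulls {F G : EtCoh.Ab X} (a : F ⟶ G) (hi : IsIso ((EtCoh.pull i).map a))
    (hj : IsIso ((EtCoh.pull j).map a)) : IsIso a := by
  refine (EtFound.isIso_iff_stalks _).2 fun Ω _ _ ξ => ?_
  by_cases hξ : ξ.base (default : Spec (CommRingCat.of Ω)) ∈ Set.range i.base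
  · exact EtFound.isIso_stalk_of_lift i a ξ hξ fun k _ _ z =>
      (NatIso.isIso_map_iff (EtFound.stalkPullIso i z) a).1
        (inferInstanceAs (IsIso ((EtCoh.stalk z).map ((EtCoh.pull i).map a))))
  · exact EtFound.isIso_stalk_of_lift j a ξ (by rw [hU]; exact hξ) fun k _ _ z =>
      (NatIso.isIso_map_iff (EtFound.stalkPullIso j z) a).1
        (inferInstanceAs (IsIso ((EtCoh.stalk z).map ((EtCoh.pull j).map a))))

theorem pull_closed_fst {A : EtCoh.Ab Z} {G : EtCoh.Ab X} (p : (EtCoh.push i).obj A ⟶ (EtCoh.push i).obj ((EtCoh.pull i).obj G)) :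
    IsIso ((EtCoh.pull i).map (pullback.fst p ((EtCoh.pullPushAdj i).unit.app G))) := by
  haveI := EtFound.pull_preservesFiniteLimits i
  haveI := isIso_pull_unit_closed i G
  exact ((IsPullback.of_hasPullback p ((EtCoh.pullPushAdj i).unit.app G)).map (EtCoh.pull i)).isIso_fst_of_isIso

theorem pull_open_snd {A : EtCoh.Ab Z} {G : EtCoh.Ab X} (p : (EtCoh.push i).obj A ⟶ (EtCoh.push i).obj ((EtCoh.pull i).obj G)) :
    IsIso ((EtCoh.pull j).map (pullback.snd p ((EtCoh.pullPushAdj i).unit.app G))) := by
  haveI := EtFound.pull_preservesFiniteLimits j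
  haveI : IsIso ((EtCoh.pull j).map p) := (isZero_pull_push hU _).isIso (isZero_pull_push hU _) _
  exact ((IsPullback.of_hasPullback p ((EtCoh.pullPushAdj i).unit.app G)).map (EtCoh.pull j)).isIso_snd_of_isIso

variable (i j)


theorem exists_iso_pullback (F : EtCoh.Ab X) :
    ∃ u : F ⟶ pullback ((EtCoh.push i).map ((EtCoh.pull i).map ((EtCoh.pullPushAdj j).unit.app F)))
        ((EtCoh.pullPushAdj i).unit.app ((EtCoh.push j).obj ((EtCoh.pull j).obj F))),
      IsIso u ∧ u ≫ pullback.fst _ _ = (EtCoh.pullPushAdj i).unit.app F ∧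
        u ≫ pullback.snd _ _ = (EtCoh.pullPushAdj j).unit.app F := by
  let p := (EtCoh.push i).map ((EtCoh.pull i).map ((EtCoh.pullPushAdj j).unit.app F))
  let q := (EtCoh.pullPushAdj i).unit.app ((EtCoh.push j).obj ((EtCoh.pull j).obj F))
  let u : F ⟶ pullback p q := pullback.lift ((EtCoh.pullPushAdj i).unit.app F) ((EtCoh.pullPushAdj j).unit.app F)
    ((EtCoh.pullPushAdj i).unit.naturality ((EtCoh.pullPushAdj j).unit.app F)).symm
  refine ⟨u, isIso_of_pulls hU u ?_ ?_, pullback.lift_fst _ _ _, pullback.lift_snd _ _ _⟩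
  · haveI := pull_closed_fst hU (i := i) (j := j) (G := (EtCoh.push j).obj ((EtCoh.pull j).obj F)) p
    haveI : IsIso ((EtCoh.pull i).map u ≫ (EtCoh.pull i).map (pullback.fst p q)) := by
      rw [← Functor.map_comp, pullback.lift_fst]
      exact isIso_pull_unit_closed i F
    exact IsIso.of_isIso_comp_right _ ((EtCoh.pull i).map (pullback.fst p q))
  · haveI := pull_open_snd hU (i := i) (j := j) (G := (EtCoh.push j).obj ((EtCoh.pull j).obj F)) p
    haveI : IsIso ((EtCoh.pull j).map u ≫ (EtCoh.pull j).map (pullback.snd p q)) := by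
      rw [← Functor.map_comp, pullback.lift_snd]
      exact isIso_pull_unit_open j F
    exact IsIso.of_isIso_comp_right _ ((EtCoh.pull j).map (pullback.snd p q))

theorem recollTriple_full : (EtCore.recollTriple i j).Full where
  map_surjective {F G} f := by
    obtain ⟨uF, hF, hF1, hF2⟩ := exists_iso_pullback i j hU F
    obtain ⟨uG, hG, hG1, hG2⟩ := exists_iso_pullback i j hU G
    have w : f.left ≫ (EtCoh.pull i).map ((EtCoh.pullPushAdj j).unit.app G) =
        (EtCoh.pull i).map ((EtCoh.pullPushAdj j).unit.app F) ≫ (EtCoh.pull i).map ((EtCoh.push j).map f.right) := f.w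
    let l : F ⟶ pullback ((EtCoh.push i).map ((EtCoh.pull i).map ((EtCoh.pullPushAdj j).unit.app G)))
        ((EtCoh.pullPushAdj i).unit.app ((EtCoh.push j).obj ((EtCoh.pull j).obj G))) :=
      pullback.lift ((EtCoh.pullPushAdj i).unit.app F ≫ (EtCoh.push i).map f.left)
        ((EtCoh.pullPushAdj j).unit.app F ≫ (EtCoh.push j).map f.right) (by
          rw [Category.assoc, ← Functor.map_comp, w, ← Functor.map_comp,
            (EtCoh.pullPushAdj i).unit_naturality]
          rfl)
    refine ⟨l ≫ inv uG, ?_⟩
    have h1 : (l ≫ inv uG) ≫ (EtCoh.pullPushAdj i).unit.app G =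
        (EtCoh.pullPushAdj i).unit.app F ≫ (EtCoh.push i).map f.left := by
      refine (congrArg ((l ≫ inv uG) ≫ ·) hG1.symm).trans ?_
      rw [Category.assoc, IsIso.inv_hom_id_assoc]
      exact pullback.lift_fst _ _ _
    have h2 : (l ≫ inv uG) ≫ (EtCoh.pullPushAdj j).unit.app G =
        (EtCoh.pullPushAdj j).unit.app F ≫ (EtCoh.push j).map f.right := by
      refine (congrArg ((l ≫ inv uG) ≫ ·) hG2.symm).trans ?_
      rw [Category.assoc, IsIso.inv_hom_id_assoc]
      exact pullback.lift_snd _ _ _
    ext1
    · show (EtCoh.pull i).map (l ≫ inv uG) = f.left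
      refine ((EtCoh.pullPushAdj i).homEquiv _ _).injective ?_
      rw [Adjunction.homEquiv_unit, Adjunction.homEquiv_unit]
      exact ((EtCoh.pullPushAdj i).unit_naturality (l ≫ inv uG)).trans h1
    · show (EtCoh.pull j).map (l ≫ inv uG) = f.right
      refine ((EtCoh.pullPushAdj j).homEquiv _ _).injective ?_
      rw [Adjunction.homEquiv_unit, Adjunction.homEquiv_unit]
      exact ((EtCoh.pullPushAdj j).unit_naturality (l ≫ inv uG)).trans h2

theorem recollTriple_faithful : (EtCore.recollTriple i j).Faithful where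
  map_injective {F G} a b h := by
    obtain ⟨uG, hG, hG1, hG2⟩ := exists_iso_pullback i j hU G
    have h1 : (EtCoh.pull i).map a = (EtCoh.pull i).map b := congrArg CommaMorphism.left h
    have h2 : (EtCoh.pull j).map a = (EtCoh.pull j).map b := congrArg CommaMorphism.right h
    rw [← cancel_mono uG]
    apply pullback.hom_ext
    · rw [Category.assoc, Category.assoc, hG1, ← (EtCoh.pullPushAdj i).unit_naturality, h1,
        (EtCoh.pullPushAdj i).unit_naturality]
    · rw [Category.assoc, Category.assoc, hG2, ← (EtCoh.pullPushAdj j).unit_naturality, h2,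
        (EtCoh.pullPushAdj j).unit_naturality]

theorem recollTriple_essSurj : (EtCore.recollTriple i j).EssSurj where
  mem_essImage T := by
    let p := (EtCoh.push i).map T.hom
    let q := (EtCoh.pullPushAdj i).unit.app ((EtCoh.push j).obj T.right)
    let P := pullback p q
    haveI := pull_closed_fst hU (i := i) (j := j) (G := (EtCoh.push j).obj T.right) p
    haveI := pull_open_snd hU (i := i) (j := j) (G := (EtCoh.push j).obj T.right) p
    haveI := isIso_counit_closed i T.left
    haveI := isIso_counit_open j T.right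
    let a : (EtCoh.pull i).obj P ≅ T.left :=
      asIso ((EtCoh.pull i).map (pullback.fst p q) ≫ (EtCoh.pullPushAdj i).counit.app T.left)
    let b : (EtCoh.pull j).obj P ≅ T.right :=
      asIso ((EtCoh.pull j).map (pullback.snd p q) ≫ (EtCoh.pullPushAdj j).counit.app T.right)
    refine ⟨P, ⟨Comma.isoMk a b ?_⟩⟩
    show ((EtCoh.pull i).map (pullback.fst p q) ≫ (EtCoh.pullPushAdj i).counit.app T.left) ≫ T.hom =
      (EtCoh.pull i).map ((EtCoh.pullPushAdj j).unit.app P) ≫ (EtCoh.pull i).map ((EtCoh.push j).map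
        ((EtCoh.pull j).map (pullback.snd p q) ≫ (EtCoh.pullPushAdj j).counit.app T.right))
    have hr : (EtCoh.pullPushAdj j).unit.app P ≫ (EtCoh.push j).map
        ((EtCoh.pull j).map (pullback.snd p q) ≫ (EtCoh.pullPushAdj j).counit.app T.right) = pullback.snd p q := by
      refine ((EtCoh.pullPushAdj j).homEquiv_unit P T.right _).symm.trans ?_
      exact (congrArg _ ((EtCoh.pullPushAdj j).homEquiv_counit P T.right (pullback.snd p q)).symm).trans
        (Equiv.apply_symm_apply _ _)
    have hc : (EtCoh.pullPushAdj i).counit.app T.left ≫ T.hom =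
        (EtCoh.pull i).map p ≫ (EtCoh.pullPushAdj i).counit.app ((EtCoh.pull i).obj ((EtCoh.push j).obj T.right)) :=
      ((EtCoh.pullPushAdj i).counit_naturality T.hom).symm
    rw [← Functor.map_comp (EtCoh.pull i), hr, Category.assoc]
    refine (congrArg ((EtCoh.pull i).map (pullback.fst p q) ≫ ·) hc).trans ?_
    rw [← Category.assoc, ← Functor.map_comp, show pullback.fst p q ≫ p = pullback.snd p q ≫ q from pullback.condition,
      Functor.map_comp, Category.assoc]
    exact (congrArg ((EtCoh.pull i).map (pullback.snd p q) ≫ ·)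
      ((EtCoh.pullPushAdj i).left_triangle_components _)).trans (Category.comp_id _)

theorem recollTriple_isEquivalence : (EtCore.recollTriple i j).IsEquivalence :=
  { full := recollTriple_full i j hU
    faithful := recollTriple_faithful i j hU
    essSurj := recollTriple_essSurj i j hU }

end

end RecollLib
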